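import Mathlib

/-!
# Counting with double cosets (S1750; helper781)

`H = ⋃ ψ(C) xᵢ ψ(C)`, `i < N`, and `|H| ≤ |C| · ∑ mᵢ` where `mᵢ` bounds the number of cosets `ψ(C) xᵢ ψ(s)`.
-/

set_option autoImplicit false

namespace Cfsg.Agent.CoThreeStd.Bound.Count

variable {H C : Type*} [Group H] [Group C]

/-- the stabiliser of the coset `ψ(C) x` -/
def stabC (ψ : C →* H) (x : H) : Subgroup C where
  carrier := {s | ∃ w, ψ w * (x * ψ s) = x}
  one_mem' := ⟨1, by rw [map_one, mul_one, one_mul]⟩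
  mul_mem' := by
    rintro a b ⟨w, hw⟩ ⟨w', hw'⟩
    refine ⟨w' * w, ?_⟩
    rw [map_mul, map_mul]
    calc ψ w' * ψ w * (x * (ψ a * ψ b)) = ψ w' * ((ψ w * (x * ψ a)) * ψ b) := by group
      _ = x := by rw [hw, hw']
  inv_mem' := by
    rintro a ⟨w, hw⟩
    refine ⟨w⁻¹, ?_⟩
    rw [map_inv, map_inv]
    calc (ψ w)⁻¹ * (x * (ψ a)⁻¹) = (ψ w)⁻¹ * ((ψ w * (x * ψ a)) * (ψ a)⁻¹) := by rw [hw]
      _ = x := by group

theorem mem_stabC {ψ : C →* H} {x : H} {s : C} : s ∈ stabC ψ x ↔ ∃ w, ψ w * (x * ψ s) = x := Iff.rfl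

/-- The union of the double cosets is everything. -/
theorem cover (ψ : C →* H) (g : H) (N M : ℕ) (x : ℕ → H) (hx : x 0 = 1) (hN : 0 < N) (r : ℕ → C)
    (B : Set C) (hcov : ∀ c : C, ∃ k < M, ∃ b ∈ B, c = r k * b) (hB : ∀ b ∈ B, ∃ b', ψ b * g = g * ψ b')
    (edge : ∀ i < N, ∀ k < M, ∃ j < N, ∃ d w, ψ w * (x i * ψ (r k) * g) = x j * ψ d)
    (hfin : ∃ n : ℕ, 0 < n ∧ g ^ n = 1) (gen : Subgroup.closure (Set.range ψ ∪ {g}) = ⊤) (h : H) :
    ∃ i < N, ∃ a s, h = ψ a * x i * ψ s := by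
  have hg : ∀ z, (∃ i < N, ∃ a s, z = ψ a * x i * ψ s) → ∃ i < N, ∃ a s, z * g = ψ a * x i * ψ s := by
    rintro z ⟨i, hi, a, s, rfl⟩
    obtain ⟨k, hk, b, hb, rfl⟩ := hcov s
    obtain ⟨b', hb'⟩ := hB b hb
    obtain ⟨j, hj, d, w, hw⟩ := edge i hi k hk
    refine ⟨j, hj, a * w⁻¹, d * b', ?_⟩
    rw [map_mul, map_mul, map_mul, map_inv]
    calc ψ a * x i * (ψ (r k) * ψ b) * g = ψ a * x i * ψ (r k) * (ψ b * g) := by group
      _ = ψ a * (x i * ψ (r k) * g) * ψ b' := by rw [hb']; group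
      _ = ψ a * (ψ w)⁻¹ * (ψ w * (x i * ψ (r k) * g)) * ψ b' := by group
      _ = _ := by rw [hw]; group
  have hgn : ∀ n z, (∃ i < N, ∃ a s, z = ψ a * x i * ψ s) → ∃ i < N, ∃ a s, z * g ^ n = ψ a * x i * ψ s := by
    intro n
    induction n with
    | zero => intro z hz; rwa [pow_zero, mul_one]
    | succ n ih =>
      intro z hz
      rw [pow_succ, ← mul_assoc]
      exact hg _ (ih z hz)
  obtain ⟨n, hn, hgn1⟩ := hfin
  have hind : ∀ u ∈ Subgroup.closure (Set.range ψ ∪ {g}), ∀ z, (∃ i < N, ∃ a s, z = ψ a * x i * ψ s) →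
      (∃ i < N, ∃ a s, z * u = ψ a * x i * ψ s) ∧ ∃ i < N, ∃ a s, z * u⁻¹ = ψ a * x i * ψ s := by
    intro u hu
    induction hu using Subgroup.closure_induction with
    | mem u hu =>
      rcases hu with ⟨c, rfl⟩ | hu
      · rintro z ⟨i, hi, a, s, rfl⟩
        exact ⟨⟨i, hi, a, s * c, by rw [map_mul]; group⟩, ⟨i, hi, a, s * c⁻¹, by
          rw [map_mul, map_inv]; group⟩⟩
      · rw [Set.mem_singleton_iff.1 hu]
        intro z hz
        refine ⟨hg z hz, ?_⟩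
        have e : g⁻¹ = g ^ (n - 1) := by
          apply inv_eq_of_mul_eq_one_left
          rw [← pow_succ, Nat.sub_add_cancel hn, hgn1]
        rw [e]
        exact hgn _ z hz
    | one => intro z hz; rw [inv_one, mul_one]; exact ⟨hz, hz⟩
    | mul u v _ _ hu hv =>
      intro z hz
      refine ⟨?_, ?_⟩
      · rw [← mul_assoc]; exact (hv _ (hu z hz).1).1
      · rw [mul_inv_rev, ← mul_assoc]; exact (hu _ (hv z hz).2).2
    | inv u _ hu =>
      intro z hz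
      rw [inv_inv]
      exact ⟨(hu z hz).2, (hu z hz).1⟩
  obtain ⟨i, hi, a, s, h1⟩ := (hind h (by rw [gen]; trivial) 1
    ⟨0, hN, 1, 1, by rw [hx, map_one, one_mul, one_mul]⟩).1
  exact ⟨i, hi, a, s, by rw [← h1, one_mul]⟩

/-- **The bound.** -/
theorem count [Finite C] (ψ : C →* H) (g : H) (N M : ℕ) (x : ℕ → H) (hx : x 0 = 1) (hN : 0 < N) (r : ℕ → C)
    (B : Set C) (hcov : ∀ c : C, ∃ k < M, ∃ b ∈ B, c = r k * b) (hB : ∀ b ∈ B, ∃ b', ψ b * g = g * ψ b')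
    (edge : ∀ i < N, ∀ k < M, ∃ j < N, ∃ d w, ψ w * (x i * ψ (r k) * g) = x j * ψ d)
    (hfin : ∃ n : ℕ, 0 < n ∧ g ^ n = 1) (c m : ℕ → ℕ)
    (stab : ∀ i < N, c i ≤ Nat.card {s : C // ∃ w, ψ w * (x i * ψ s) = x i})
    (hcm : ∀ i < N, c i * m i = Nat.card C) (gen : Subgroup.closure (Set.range ψ ∪ {g}) = ⊤) :
    Finite H ∧ Nat.card H ≤ Nat.card C * ∑ i ∈ Finset.range N, m i := by
  classical
  have hall := cover ψ g N M x hx hN r B hcov hB edge hfin gen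
  let F : (Σ i : Fin N, C × (C ⧸ stabC ψ (x i))) → H := fun p => ψ p.2.1 * x p.1 * (ψ (p.2.2.out))⁻¹
  have hF : Function.Surjective F := by
    intro h
    obtain ⟨i, hi, a, s, rfl⟩ := hall h
    have h1 : ((s⁻¹ : C) : C ⧸ stabC ψ (x i)).out⁻¹ * s⁻¹ ∈ stabC ψ (x i) := by
      rw [← QuotientGroup.eq, QuotientGroup.out_eq']
    obtain ⟨w, hw⟩ := (stabC ψ (x i)).inv_mem h1
    refine ⟨⟨⟨i, hi⟩, a * w⁻¹, ((s⁻¹ : C) : C ⧸ stabC ψ (x i))⟩, ?_⟩
    show ψ (a * w⁻¹) * x i * (ψ ((s⁻¹ : C) : C ⧸ stabC ψ (x i)).out)⁻¹ = ψ a * x i * ψ s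
    generalize ((s⁻¹ : C) : C ⧸ stabC ψ (x i)).out = o at *
    have e : (o⁻¹ * s⁻¹)⁻¹ = s * o := by group
    rw [e, map_mul] at hw
    rw [map_mul, map_inv]
    calc ψ a * (ψ w)⁻¹ * x i * (ψ o)⁻¹ = ψ a * (ψ w)⁻¹ * (ψ w * (x i * (ψ s * ψ o))) * (ψ o)⁻¹ := by rw [hw]
      _ = _ := by group
  have hfin1 : ∀ i : Fin N, Finite (C × (C ⧸ stabC ψ (x i))) := fun i => inferInstance
  have hfinH : Finite H := Finite.of_surjective F hF
  refine ⟨hfinH, ?_⟩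
  have h1 := Nat.card_le_card_of_surjective F hF
  rw [Nat.card_sigma] at h1
  refine h1.trans ?_
  rw [Finset.mul_sum, ← Fin.sum_univ_eq_sum_range (fun i => Nat.card C * m i)]
  apply Finset.sum_le_sum
  intro i _
  rw [Nat.card_prod]
  apply Nat.mul_le_mul_left
  have h2 := stab i i.2
  have h3 := hcm i i.2
  have h4 : Nat.card {s : C // ∃ w, ψ w * (x i * ψ s) = x i} = Nat.card (stabC ψ (x i)) := rfl
  rw [h4] at h2
  have h5 := (stabC ψ (x i)).card_mul_index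
  rw [Subgroup.index_eq_card] at h5
  have hpos : 0 < Nat.card C := Nat.card_pos
  have hc : 0 < c i := by
    rcases Nat.eq_zero_or_pos (c i) with h6 | h6
    · rw [h6, zero_mul] at h3; omega
    · exact h6
  have h6 : Nat.card (stabC ψ (x i)) * Nat.card (C ⧸ stabC ψ (x i)) = c i * m i := by rw [h5, h3]
  have h7 : c i * Nat.card (C ⧸ stabC ψ (x i)) ≤ c i * m i := by
    rw [← h6]
    exact Nat.mul_le_mul_right _ h2
  exact Nat.le_of_mul_le_mul_left h7 hc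

end Cfsg.Agent.CoThreeStd.Bound.Count
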