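import Cfsg.Agent.CoThreeStd.DC.Eng
import Cfsg.Agent.CoThreeStd.Bound.Data
import Cfsg.Agent.CoThreeStd.Bound.Data1
import Cfsg.Agent.CoThreeStd.Bound.Data2
import Cfsg.Agent.CoThreeStd.Bound.Data3
import Cfsg.Agent.CoThreeStd.Bound.Data4
import Cfsg.Agent.CoThreeStd.Bound.Data5
import Cfsg.Agent.CoThreeStd.Bound.Data6
import Cfsg.Agent.CoThreeStd.Bound.Data7
import Cfsg.Agent.CoThreeStd.Bound.Data8

/-! The static tables of the double coset enumeration for the centraliser `2 × M₁₂` (generated). -/

set_option autoImplicit false
set_option maxRecDepth 100000

namespace Cfsg.Agent.CoThreeStd.Bound.Data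

open Cfsg.Agent.CoThreeStd.DC.Eng

/-- relator constants `1, es, ρ, ρ⁻¹` -/
def wT : ℕ := 0x8b9a513476200000a89b327451600000359870a4b1260000ba9876543210

/-- parents, 20-bit slots -/
def parT : ℕ := 0xb0590906b0888b08854031fe0312f030fd030c6030c3030a4030a003078030660303c03030030260301c028fa0226f021a2020fa020a002085020840207c0207b0207a02079020780205d0205502054020520204402043020420203f0203e0203d0203c020260201c0200f0200b0183f0183e0183d0183c0101d0098f00985009840087b0081d0081c0080d0080c00803000010000000000

/-- the rows -/
def rows : BT :=
 .node (.node (.node (.node (.node (.node (.leaf 0 0)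
       (.leaf row_32 398))
      (.node (.leaf row_16 404)
       (.leaf row_48 416)))
     (.node (.node (.leaf row_8 404)
       (.leaf row_40 402))
      (.node (.leaf row_24 400)
       (.leaf row_56 408))))
    (.node (.node (.node (.leaf row_4 404)
       (.leaf row_36 398))
      (.node (.leaf row_20 404)
       (.leaf row_52 404)))
     (.node (.node (.leaf row_12 400)
       (.leaf row_44 516))
      (.node (.leaf row_28 408)
       (.leaf row_60 828)))))
   (.node (.node (.node (.node (.leaf row_2 876)
       (.leaf row_34 398))
      (.node (.leaf row_18 404)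
       (.leaf row_50 402)))
     (.node (.node (.leaf row_10 428)
       (.leaf row_42 404))
      (.node (.leaf row_26 400)
       (.leaf row_58 540))))
    (.node (.node (.node (.leaf row_6 400)
       (.leaf row_38 398))
      (.node (.leaf row_22 398)
       (.leaf row_54 408)))
     (.node (.node (.leaf row_14 404)
       (.leaf row_46 412))
      (.node (.leaf row_30 398)
       (.leaf 0 0))))))
  (.node (.node (.node (.node (.node (.leaf row_1 876)
       (.leaf row_33 398))
      (.node (.leaf row_17 404)
       (.leaf row_49 398)))
     (.node (.node (.leaf row_9 460)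
       (.leaf row_41 404))
      (.node (.leaf row_25 398)
       (.leaf row_57 416))))
    (.node (.node (.node (.leaf row_5 420)
       (.leaf row_37 398))
      (.node (.leaf row_21 397)
       (.leaf row_53 400)))
     (.node (.node (.leaf row_13 404)
       (.leaf row_45 468))
      (.node (.leaf row_29 398)
       (.leaf 0 0)))))
   (.node (.node (.node (.node (.leaf row_3 780)
       (.leaf row_35 399))
      (.node (.leaf row_19 404)
       (.leaf row_51 412)))
     (.node (.node (.leaf row_11 460)
       (.leaf row_43 398))
      (.node (.leaf row_27 398)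
       (.leaf row_59 444))))
    (.node (.node (.node (.leaf row_7 400)
       (.leaf row_39 397))
      (.node (.leaf row_23 400)
       (.leaf row_55 404)))
     (.node (.node (.leaf row_15 404)
       (.leaf row_47 402))
      (.node (.leaf row_31 400)
       (.leaf 0 0))))))

/-- the tables -/
def tabs : Tabs where
  rows := rows
  R := rT
  B := bT
  F := pT
  W := wT
  N := 0x6222
  P := parT

end Cfsg.Agent.CoThreeStd.Bound.Data
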