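import Cfsg.Agent.CoThreeStd.DC.Sound
import Cfsg.Agent.CoThreeStd.Bound.Count
import Cfsg.Agent.CoThreeStd.Bound.Tabs

/-!
# Base facts of the double coset enumeration (S1750)

The codes of the transversal `r_k` and of the elements of `B = C_C(x)` are codes of elements of `C`, `β_b g = g φ_b`,
every element of `C` is `r_k β`, and the representatives `x_i`.
-/

set_option autoImplicit false
set_option maxRecDepth 100000

namespace Cfsg.Agent.CoThreeStd.Bound.Base

open Cfsg.Agent.Lib.PackMat Cfsg.Agent.CoThreeStd.DC.Eng Cfsg.Agent.CoThreeStd.DC.Sound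
  Cfsg.Agent.CoThreeStd.Bound.Data

/-- codes of the letters `t x s₁ … s₄ e` -/
def lT : ℕ := 0x538941b7a0620000ab8942375601000003642918a75b000026104a375b980000537492b8a601000098ba507341260001ba9876543210

/-- codes of the generators `t, x, ts₁, …, ts₄` of `B` -/
def bgT : ℕ := 0x1ab8942375601000103642918a75b000126104a375b980001537492b8a601000098ba507341260001ba9876543210

/-- codes of their conjugates `x, tx, ts₁, …, ts₄` -/
def pgT : ℕ := 0x1ab8942375601000103642918a75b000126104a375b980001537492b8a601000198ba50734126000098ba50734126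

/-! ### kernel functions -/

/-- transversal -/
noncomputable def chkR (l : List (ℕ × ℕ)) : ℕ → Bool :=
  List.rec (motive := fun _ => ℕ → Bool) (fun _ => true)
    (fun a _ ih k => cond (Nat.blt a.1 k) (cond (Nat.blt a.2 7)
      (force (at64 lT a.2) fun u => force (at64 rT a.1) fun v => cond (Nat.beq (mulN u v) (at64 rT k))
        (force (Nat.add k 1) ih) false) false) false) l

/-- elements of `B` -/
noncomputable def chkB (l : List (ℕ × ℕ)) : ℕ → Bool :=
  List.rec (motive := fun _ => ℕ → Bool) (fun _ => true)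
    (fun a _ ih k => cond (Nat.blt a.1 k) (cond (Nat.blt a.2 6)
      (force (at64 bT a.1) fun u => force (at64 bgT a.2) fun v => cond (Nat.beq (mulN u v) (at64 bT k))
        (force (at64 pT a.1) fun u => force (at64 pgT a.2) fun v => cond (Nat.beq (mulN u v) (at64 pT k))
          (force (Nat.add k 1) ih) false) false) false) false) l

/-- left multiplication by a letter -/
noncomputable def chkL (q : ℕ) (l : List (ℕ × ℕ)) : ℕ → Bool :=
  List.rec (motive := fun _ => ℕ → Bool) (fun _ => true)
    (fun a _ ih k => cond (Nat.ble a.1 395) (cond (Nat.ble a.2 479)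
      (force (at64 lT q) fun u => force (at64 rT k) fun v => force (at64 rT a.1) fun u' =>
        force (at64 bT a.2) fun v' => cond (Nat.beq (mulN u v) (mulN u' v'))
          (force (Nat.add k 1) ih) false) false) false) l

/-- the codes at positions `k, …, k + n - 1` are increasing and greater than `c` -/
noncomputable def incr (r n : ℕ) : ℕ → ℕ → Bool :=
  Nat.rec (motive := fun _ => ℕ → ℕ → Bool) (fun _ _ => true)
    (fun _ ih k c => force (Nat.land (slot r k) 0x1ffffffffffff) fun d => cond (Nat.blt c d)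
      (force (Nat.add k 1) fun k => ih k d) false) n

/-- row `i` has `396 + n` slots and `n` different stabiliser elements -/
noncomputable def stOK (i n : ℕ) : Bool :=
  look rows i fun r n' => cond (Nat.beq n' (Nat.add 396 n)) (incr r n 396 0) false

/-- all rows -/
noncomputable def chkS (l : List ℕ) : ℕ → Bool :=
  List.rec (motive := fun _ => ℕ → Bool) (fun _ => true)
    (fun n _ ih i => cond (stOK i n) (force (Nat.add i 1) ih) false) l

/-! ### kernel checks -/

theorem kR : chkR rPar.tail 1 = true := by decide +kernel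
theorem lenR : rPar.tail.length = 395 := by decide +kernel
theorem kB : chkB bPar.tail 1 = true := by decide +kernel
theorem lenB : bPar.tail.length = 479 := by decide +kernel
theorem kL0 : chkL 0 (left.getD 0 []) 0 = true := by decide +kernel
theorem kL1 : chkL 1 (left.getD 1 []) 0 = true := by decide +kernel
theorem kL2 : chkL 2 (left.getD 2 []) 0 = true := by decide +kernel
theorem kL3 : chkL 3 (left.getD 3 []) 0 = true := by decide +kernel
theorem kL4 : chkL 4 (left.getD 4 []) 0 = true := by decide +kernel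
theorem kL5 : chkL 5 (left.getD 5 []) 0 = true := by decide +kernel
theorem kL6 : chkL 6 (left.getD 6 []) 0 = true := by decide +kernel
theorem lenL : left.all (fun l => Nat.beq l.length 396) = true := by decide +kernel
theorem lenL' : left.length = 7 := by decide +kernel
theorem kS : chkS ns.tail 1 = true := by decide +kernel
theorem lenS : ns.tail.length = 60 := by decide +kernel
theorem r0 : at64 rT 0 = idN := by decide +kernel
theorem b0 : at64 bT 0 = idN := by decide +kernel
theorem p0 : at64 pT 0 = idN := by decide +kernel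
theorem bg0 : at64 bgT 0 = at64 lT 0 := by decide +kernel
theorem bg1 : at64 bgT 1 = at64 lT 1 := by decide +kernel
theorem pg0 : at64 pgT 0 = at64 lT 1 := by decide +kernel
theorem pg1 : at64 pgT 1 = mulN (at64 lT 0) (at64 lT 1) := by decide +kernel
theorem bgi : ∀ q, 2 ≤ q → q ≤ 5 → at64 bgT q = mulN (at64 lT 0) (at64 lT q) ∧ at64 pgT q = at64 bgT q := by
  intro q h2 h5
  interval_cases q <;> decide +kernel
theorem lsq : ∀ q, q < 7 → mulN (at64 lT q) (at64 lT q) = idN := by
  intro q h
  interval_cases q <;> decide +kernel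
theorem w0 : at64 tabs.W 0 = idN := by decide +kernel
theorem e0 : expo tabs 0 = 2 := by decide +kernel

/-! ### soundness of the lists -/

attribute [local irreducible] mulN idN at64 slot rowOK chk

theorem chkR_sound (l : List (ℕ × ℕ)) : ∀ {k : ℕ}, chkR l k = true → ∀ m < l.length,
    ∃ p q, p < k + m ∧ q < 7 ∧ mulN (at64 lT q) (at64 rT p) = at64 rT (k + m) := by
  induction l with
  | nil => intro k _ m hm; exact absurd hm (by simp)
  | cons a l ih =>
    intro k h m hm
    replace h : cond (Nat.blt a.1 k) (cond (Nat.blt a.2 7)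
      (cond (Nat.beq (mulN (at64 lT a.2) (at64 rT a.1)) (at64 rT k)) (chkR l (k + 1)) false) false) false = true := h
    obtain ⟨h1, h⟩ := cond_true_of h
    obtain ⟨h2, h⟩ := cond_true_of h
    obtain ⟨h3, h⟩ := cond_true_of h
    cases m with
    | zero => exact ⟨a.1, a.2, by rw [← Nat.blt_eq]; exact h1, by rw [← Nat.blt_eq]; exact h2, Nat.eq_of_beq_eq_true h3⟩
    | succ m =>
      have := ih h m (by rw [List.length_cons] at hm; omega)
      rwa [show k + 1 + m = k + (m + 1) by omega] at this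

theorem chkB_sound (l : List (ℕ × ℕ)) : ∀ {k : ℕ}, chkB l k = true → ∀ m < l.length,
    ∃ p q, p < k + m ∧ q < 6 ∧ mulN (at64 bT p) (at64 bgT q) = at64 bT (k + m) ∧
      mulN (at64 pT p) (at64 pgT q) = at64 pT (k + m) := by
  induction l with
  | nil => intro k _ m hm; exact absurd hm (by simp)
  | cons a l ih =>
    intro k h m hm
    replace h : cond (Nat.blt a.1 k) (cond (Nat.blt a.2 6)
      (cond (Nat.beq (mulN (at64 bT a.1) (at64 bgT a.2)) (at64 bT k))
        (cond (Nat.beq (mulN (at64 pT a.1) (at64 pgT a.2)) (at64 pT k)) (chkB l (k + 1)) false) false) false) false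
          = true := h
    obtain ⟨h1, h⟩ := cond_true_of h
    obtain ⟨h2, h⟩ := cond_true_of h
    obtain ⟨h3, h⟩ := cond_true_of h
    obtain ⟨h4, h⟩ := cond_true_of h
    cases m with
    | zero => exact ⟨a.1, a.2, by rw [← Nat.blt_eq]; exact h1, by rw [← Nat.blt_eq]; exact h2,
        Nat.eq_of_beq_eq_true h3, Nat.eq_of_beq_eq_true h4⟩
    | succ m =>
      have := ih h m (by rw [List.length_cons] at hm; omega)
      rwa [show k + 1 + m = k + (m + 1) by omega] at this

theorem chkL_sound (q : ℕ) (l : List (ℕ × ℕ)) : ∀ {k : ℕ}, chkL q l k = true → ∀ m < l.length,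
    ∃ k' b, k' ≤ 395 ∧ b ≤ 479 ∧ mulN (at64 lT q) (at64 rT (k + m)) = mulN (at64 rT k') (at64 bT b) := by
  induction l with
  | nil => intro k _ m hm; exact absurd hm (by simp)
  | cons a l ih =>
    intro k h m hm
    replace h : cond (Nat.ble a.1 395) (cond (Nat.ble a.2 479)
      (cond (Nat.beq (mulN (at64 lT q) (at64 rT k)) (mulN (at64 rT a.1) (at64 bT a.2)))
        (chkL q l (k + 1)) false) false) false = true := h
    obtain ⟨h1, h⟩ := cond_true_of h
    obtain ⟨h2, h⟩ := cond_true_of h
    obtain ⟨h3, h⟩ := cond_true_of h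
    cases m with
    | zero => exact ⟨a.1, a.2, Nat.le_of_ble_eq_true h1, Nat.le_of_ble_eq_true h2, Nat.eq_of_beq_eq_true h3⟩
    | succ m =>
      have := ih h m (by rw [List.length_cons] at hm; omega)
      rwa [show k + 1 + m = k + (m + 1) by omega] at this

theorem kL : ∀ q < 7, ∀ k ≤ 395, ∃ k' b, k' ≤ 395 ∧ b ≤ 479 ∧
    mulN (at64 lT q) (at64 rT k) = mulN (at64 rT k') (at64 bT b) := by
  intro q hq k hk
  have hlen : (left.getD q []).length = 396 := by
    have h1 := List.all_eq_true.1 lenL (left.getD q []) (by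
      rw [List.getD_eq_getElem _ _ (by rw [lenL']; exact hq)]
      exact List.getElem_mem _)
    exact Nat.eq_of_beq_eq_true h1
  have hc : chkL q (left.getD q []) 0 = true := by
    interval_cases q
    exacts [kL0, kL1, kL2, kL3, kL4, kL5, kL6]
  have := chkL_sound q _ hc k (by rw [hlen]; omega)
  rwa [Nat.zero_add] at this

theorem incr_sound {r : ℕ} (n : ℕ) : ∀ {k c : ℕ}, incr r n k c = true →
    (∀ m < n, c < Nat.land (slot r (k + m)) 0x1ffffffffffff) ∧
    ∀ m < n, ∀ m' < m, Nat.land (slot r (k + m')) 0x1ffffffffffff < Nat.land (slot r (k + m)) 0x1ffffffffffff := by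
  induction n with
  | zero => exact fun _ => ⟨fun m hm => absurd hm (by simp), fun m hm => absurd hm (by simp)⟩
  | succ n ih =>
    intro k c h
    replace h : cond (Nat.blt c (Nat.land (slot r k) 0x1ffffffffffff))
      (incr r n (k + 1) (Nat.land (slot r k) 0x1ffffffffffff)) false = true := h
    obtain ⟨h1, h⟩ := cond_true_of h
    obtain ⟨h2, h3⟩ := ih h
    have h1' : c < Nat.land (slot r k) 0x1ffffffffffff := by rw [← Nat.blt_eq]; exact h1
    constructor
    · intro m hm
      cases m with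
      | zero => exact h1'
      | succ m =>
        have := h2 m (by omega)
        rw [show k + 1 + m = k + (m + 1) by omega] at this
        exact h1'.trans this
    · intro m hm m' hm'
      cases m with
      | zero => exact absurd hm' (by simp)
      | succ m =>
        rw [show k + (m + 1) = k + 1 + m by omega]
        cases m' with
        | zero => exact h2 m (by omega)
        | succ m' =>
          rw [show k + (m' + 1) = k + 1 + m' by omega]
          exact h3 m (by omega) m' (by omega)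

theorem chkS_sound (l : List ℕ) : ∀ {i : ℕ}, chkS l i = true → ∀ m < l.length,
    stOK (i + m) (l.getD m 0) = true := by
  induction l with
  | nil => intro k _ m hm; exact absurd hm (by simp)
  | cons n l ih =>
    intro i h m hm
    replace h : cond (stOK i n) (chkS l (i + 1)) false = true := h
    obtain ⟨h1, h⟩ := cond_true_of h
    cases m with
    | zero => exact h1
    | succ m =>
      have := ih h m (by rw [List.length_cons] at hm; omega)
      rw [show i + 1 + m = i + (m + 1) by omega] at this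
      rw [List.getD_cons_succ]
      exact this

theorem stOK_sound {i n : ℕ} (h : stOK i n = true) : ∃ r, find rows i = some (r, 396 + n) ∧
    (∀ m < n, ∀ m' < m, Nat.land (slot r (396 + m')) 0x1ffffffffffff <
      Nat.land (slot r (396 + m)) 0x1ffffffffffff) := by
  unfold stOK at h
  obtain ⟨r, n', h1, h2⟩ := look_sound h
  obtain ⟨h3, h4⟩ := cond_true_of h2
  have h5 : n' = 396 + n := Nat.eq_of_beq_eq_true h3
  rw [h5] at h1
  exact ⟨r, h1, (incr_sound n h4).2⟩

/-! ### rows -/

/-- depth of a tree -/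
def dep : BT → ℕ
  | .leaf _ _ => 0
  | .node l r => 1 + max (dep l) (dep r)

theorem find_lt {t : BT} {i : ℕ} {x : ℕ × ℕ} (h : find t i = some x) : i < 2 ^ dep t := by
  induction t generalizing i with
  | leaf r n =>
    rw [find] at h
    split_ifs at h with h1
    rw [h1]
    exact Nat.two_pow_pos _
  | node l r ihl ihr =>
    have key : ∀ m, i >>> 1 < 2 ^ m → i < 2 ^ (1 + m) := by
      intro m hm
      rw [Nat.shiftRight_eq_div_pow, pow_one] at hm
      rw [pow_add, pow_one]
      omega
    rw [find] at h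
    split_ifs at h with h1
    · refine lt_of_lt_of_le (key _ (ihl h)) (Nat.pow_le_pow_right (by norm_num) ?_)
      show 1 + dep l ≤ 1 + max (dep l) (dep r)
      omega
    · refine lt_of_lt_of_le (key _ (ihr h)) (Nat.pow_le_pow_right (by norm_num) ?_)
      show 1 + dep r ≤ 1 + max (dep l) (dep r)
      omega

theorem dep_rows : dep rows = 6 := by decide +kernel
theorem find_0 : find rows 0 = some (0, 0) := by decide +kernel
theorem find_61 : find rows 61 = some (0, 0) := by decide +kernel
theorem find_62 : find rows 62 = some (0, 0) := by decide +kernel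
theorem find_63 : find rows 63 = some (0, 0) := by decide +kernel

section Sem

variable {C H : Type*} [Group C] [Group H]

/-- the hypotheses on the letters -/
structure Lets (M : DC.Sound.Mod C) (ga : ℕ → C) : Prop where
  cd : ∀ q < 7, M.cd (ga q) = at64 lT q
  cl : Subgroup.closure (ga '' {q | q < 7}) = ⊤

/-- the hypotheses on `g` -/
structure Conj (ga : ℕ → C) (ψ : C →* H) (g : H) : Prop where
  c0 : ψ (ga 0) * g = g * ψ (ga 1)
  c1 : ψ (ga 1) * g = g * ψ (ga 0 * ga 1)
  ci : ∀ i, 2 ≤ i → i ≤ 5 → ψ (ga 0 * ga i) * g = g * ψ (ga 0 * ga i)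

variable {M : DC.Sound.Mod C} {ga : ℕ → C}

theorem exists_rr (L : Lets M ga) : ∃ rr : ℕ → C, rr 0 = 1 ∧ ∀ k ≤ 395, M.cd (rr k) = at64 rT k := by
  have key : ∀ k, k ≤ 395 → ∃ c : C, M.cd c = at64 rT k := by
    intro k
    induction k using Nat.strong_induction_on with
    | _ k ih =>
      intro hk
      rcases Nat.eq_zero_or_pos k with rfl | hpos
      · exact ⟨1, by rw [M.one, r0]⟩
      · obtain ⟨p, q, hp, hq, e⟩ := chkR_sound _ kR (k - 1) (by rw [lenR]; omega)
        rw [show 1 + (k - 1) = k by omega] at hp e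
        obtain ⟨c, hc⟩ := ih p hp (by omega)
        exact ⟨ga q * c, by rw [← M.mul, L.cd q hq, hc, e]⟩
  choose! f hf using key
  refine ⟨f, ?_, hf⟩
  apply M.inj
  rw [hf 0 (by omega), r0, M.one]

theorem gens_B (L : Lets M ga) {ψ : C →* H} {g : H} (D : Conj ga ψ g) (q : ℕ) (hq : q < 6) :
    ∃ β φ : C, M.cd β = at64 bgT q ∧ M.cd φ = at64 pgT q ∧ ψ β * g = g * ψ φ := by
  rcases (by omega : q = 0 ∨ q = 1 ∨ (2 ≤ q ∧ q ≤ 5)) with rfl | rfl | ⟨h2, h5⟩
  · exact ⟨ga 0, ga 1, by rw [L.cd 0 (by omega), bg0], by rw [L.cd 1 (by omega), pg0], D.c0⟩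
  · exact ⟨ga 1, ga 0 * ga 1, by rw [L.cd 1 (by omega), bg1],
      by rw [← M.mul, L.cd 0 (by omega), L.cd 1 (by omega), pg1], D.c1⟩
  · obtain ⟨e1, e2⟩ := bgi q h2 h5
    refine ⟨ga 0 * ga q, ga 0 * ga q, ?_, ?_, D.ci q h2 h5⟩
    · rw [← M.mul, L.cd 0 (by omega), L.cd q (by omega), e1]
    · rw [← M.mul, L.cd 0 (by omega), L.cd q (by omega), e2, e1]

theorem exists_B (L : Lets M ga) {ψ : C →* H} {g : H} (D : Conj ga ψ g) :
    ∀ b ≤ 479, ∃ β φ : C, M.cd β = at64 bT b ∧ M.cd φ = at64 pT b ∧ ψ β * g = g * ψ φ := by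
  intro b
  induction b using Nat.strong_induction_on with
  | _ b ih =>
    intro hb
    rcases Nat.eq_zero_or_pos b with rfl | hpos
    · exact ⟨1, 1, by rw [M.one, b0], by rw [M.one, p0], by rw [map_one, one_mul, mul_one]⟩
    · obtain ⟨p, q, hp, hq, e1, e2⟩ := chkB_sound _ kB (b - 1) (by rw [lenB]; omega)
      rw [show 1 + (b - 1) = b by omega] at hp e1 e2
      obtain ⟨β, φ, h1, h2, h3⟩ := ih p hp (by omega)
      obtain ⟨β', φ', h1', h2', h3'⟩ := gens_B L D q hq
      refine ⟨β * β', φ * φ', by rw [← M.mul, h1, h1', e1], by rw [← M.mul, h2, h2', e2], ?_⟩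
      rw [map_mul, map_mul, mul_assoc, h3', ← mul_assoc, h3, mul_assoc]

/-- the elements of `C` conjugated into `C` by `g` -/
def BS (ψ : C →* H) (g : H) : Set C := {b | ∃ b', ψ b * g = g * ψ b'}

theorem hcov (L : Lets M ga) {ψ : C →* H} {g : H} (D : Conj ga ψ g) {rr : ℕ → C} (hr0 : rr 0 = 1)
    (hrr : ∀ k ≤ 395, M.cd (rr k) = at64 rT k) (c : C) : ∃ k < 396, ∃ b ∈ BS ψ g, c = rr k * b := by
  have hmul : ∀ b ∈ BS ψ g, ∀ b' ∈ BS ψ g, b * b' ∈ BS ψ g := by
    rintro b ⟨c, hc⟩ b' ⟨c', hc'⟩
    exact ⟨c * c', by rw [map_mul, map_mul, mul_assoc, hc', ← mul_assoc, hc, mul_assoc]⟩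
  have hone : (1 : C) ∈ BS ψ g := ⟨1, by rw [map_one, one_mul, mul_one]⟩
  have hlet : ∀ q < 7, ∀ c : C, (∃ k < 396, ∃ b ∈ BS ψ g, c = rr k * b) →
      ∃ k < 396, ∃ b ∈ BS ψ g, ga q * c = rr k * b := by
    rintro q hq c ⟨k, hk, b, hb, rfl⟩
    obtain ⟨k', b', hk', hb', e⟩ := kL q hq k (by omega)
    obtain ⟨β, φ, h1, h2, h3⟩ := exists_B L D b' hb'
    refine ⟨k', by omega, β * b, hmul _ ⟨φ, h3⟩ _ hb, ?_⟩
    rw [← mul_assoc, ← mul_assoc]
    congr 1
    apply M.inj
    rw [← M.mul, ← M.mul, L.cd q hq, hrr k (by omega), hrr k' hk', h1, e]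
  have hsq : ∀ q < 7, (ga q)⁻¹ = ga q := by
    intro q hq
    rw [inv_eq_iff_mul_eq_one]
    apply M.inj
    rw [← M.mul, L.cd q hq, lsq q hq, M.one]
  have hind : ∀ u ∈ Subgroup.closure (ga '' {q | q < 7}), ∀ c : C, (∃ k < 396, ∃ b ∈ BS ψ g, c = rr k * b) →
      (∃ k < 396, ∃ b ∈ BS ψ g, u * c = rr k * b) ∧ ∃ k < 396, ∃ b ∈ BS ψ g, u⁻¹ * c = rr k * b := by
    intro u hu
    induction hu using Subgroup.closure_induction with
    | mem u hu =>
      obtain ⟨q, hq, rfl⟩ := hu
      intro c hc
      rw [hsq q hq]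
      exact ⟨hlet q hq c hc, hlet q hq c hc⟩
    | one => intro c hc; rw [inv_one, one_mul]; exact ⟨hc, hc⟩
    | mul u v _ _ hu hv =>
      intro c hc
      refine ⟨?_, ?_⟩
      · rw [mul_assoc]; exact (hu _ (hv c hc).1).1
      · rw [mul_inv_rev, mul_assoc]; exact (hv _ (hu c hc).2).2
    | inv u _ hu =>
      intro c hc
      rw [inv_inv]
      exact ⟨(hu c hc).2, (hu c hc).1⟩
  have h := (hind c (by rw [L.cl]; trivial) 1 ⟨0, by norm_num, 1, hone, by rw [hr0, one_mul]⟩).1
  rwa [mul_one] at h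

/-! ### representatives -/

/-- the parent field -/
noncomputable def pf (j : ℕ) : ℕ := Nat.land (Nat.shiftRight parT (Nat.mul 20 j)) 0xfffff

theorem pf_one : pf 1 = 0 := by decide +kernel

/-- representatives of the double cosets -/
noncomputable def xrep (ψ : C →* H) (g : H) (rr : ℕ → C) : ℕ → H
  | 0 => 1
  | j + 1 =>
    if _h : pf (j + 1) / 2048 < j + 1 then
      xrep ψ g rr (pf (j + 1) / 2048) * ψ (rr (pf (j + 1) % 2048 / 2)) * (if pf (j + 1) % 2 = 0 then g else g⁻¹)
    else 1

theorem xrep_zero (ψ : C →* H) (g : H) (rr : ℕ → C) : xrep ψ g rr 0 = 1 := by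
  rw [xrep]

theorem xrep_par (ψ : C →* H) (g : H) (rr : ℕ → C) {j p q e : ℕ} (hp : p < j) (hq : q ≤ 395) (he : e ≤ 1)
    (hf : pf j = p * 2048 + (q * 2 + e)) :
    xrep ψ g rr j = xrep ψ g rr p * ψ (rr q) * (if e = 0 then g else g⁻¹) := by
  obtain ⟨j, rfl⟩ : ∃ j', j = j' + 1 := ⟨j - 1, by omega⟩
  have h1 : pf (j + 1) / 2048 = p := by omega
  have h2 : pf (j + 1) % 2048 / 2 = q := by omega
  have h3 : (pf (j + 1) % 2 = 0) ↔ e = 0 := by omega
  rw [xrep, dif_pos (by rw [h1]; exact hp), h1, h2]
  simp only [h3]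

theorem xrep_one (ψ : C →* H) (g : H) {rr : ℕ → C} (h0 : rr 0 = 1) : xrep ψ g rr 1 = g := by
  rw [xrep_par ψ g rr (p := 0) (q := 0) (e := 0) (by norm_num) (by norm_num) (by norm_num) (by rw [pf_one]),
    xrep_zero, h0, map_one, one_mul, one_mul, if_pos rfl]

/-- the hypotheses on the relators -/
def RelW (M : DC.Sound.Mod C) (ψ : C →* H) (g : H) : Prop :=
  ∀ e ≤ 3, ∃ w : C, M.cd w = at64 tabs.W e ∧ (ψ w * g) ^ (expo tabs e + 1) = 1

theorem ctx (L : Lets M ga) {ψ : C →* H} {g : H} (D : Conj ga ψ g) (hW : RelW M ψ g) {rr : ℕ → C}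
    (hr0 : rr 0 = 1) (hrr : ∀ k ≤ 395, M.cd (rr k) = at64 rT k) : Ctx M tabs ψ g (xrep ψ g rr) rr where
  hR := hrr
  hB := exists_B L D
  hW := hW
  x0 := xrep_zero ψ g rr
  x1 := xrep_one ψ g hr0
  xp := by
    intro j p q e he h
    unfold isPar at h
    obtain ⟨h1, h⟩ := cond_true_of h
    obtain ⟨h2, h⟩ := cond_true_of h
    exact xrep_par ψ g rr (Nat.le_of_ble_eq_true h1) (Nat.le_of_ble_eq_true h2) he (Nat.eq_of_beq_eq_true h)

end Sem

end Cfsg.Agent.CoThreeStd.Bound.Base
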