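import Cfsg.Agent.CoThreeStd.Bound.M12Pres
import Cfsg.Agent.CoThreeStd.GlueF

/-!
# S1750 (N3): the final relator list

`RF` = relators of `M₁₂` (helper928), `t` central, the relators of `g = d` with `B`, and `R1`, `R3`, `R4`, and the facts
in a group `K` whose elements `h : Fin 8 → K` satisfy the relators.
-/

set_option autoImplicit false

namespace Cfsg.Agent.CoThreeStd.Bound.RelF

open Cfsg.Agent.CoThreeStd.GlueF Cfsg.Agent.CoThreeStd.Model Cfsg.Agent.CoThreeStd.Bound

/-- The final relator list, letters `t x s₁ s₂ s₃ s₄ e d = 0 … 7`. -/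
def RF : List (List (Fin 8)) :=
  RM8 ++ [[0, 0], [0, 1, 0, 1], [0, 2, 0, 2], [0, 3, 0, 3], [0, 4, 0, 4], [0, 5, 0, 5], [0, 6, 0, 6],
    [7, 7, 7], [7, 7, 0, 7, 1], [7, 7, 1, 7, 1, 0], [7, 7, 0, 2, 7, 2, 0], [7, 7, 0, 3, 7, 3, 0],
    [7, 7, 0, 4, 7, 4, 0], [7, 7, 0, 5, 7, 5, 0], R1, R3, R4]

theorem RF_okF : RF.all okF = true := by decide +kernel

theorem RF_id : RF.all idCheck = true := by decide +kernel

variable {K : Type*} [Group K] {h : Fin 8 → K}

/-- The relators hold. -/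
def Rels (h : Fin 8 → K) : Prop := ∀ r ∈ RF, (r.map h).prod = 1

/-- The element `ρ`. -/
def rho (h : Fin 8 → K) : K := (rhoS.map h).prod

namespace Rels

theorem of_mem (hR : Rels h) (r : List (Fin 8)) (hr : RF.contains r = true) : (r.map h).prod = 1 :=
  hR r (by simpa using hr)

theorem tt (hR : Rels h) : h 0 * h 0 = 1 := by
  have := hR.of_mem [0, 0] (by decide +kernel)
  simpa using this

theorem sq (hR : Rels h) (k : Fin 6) : h ⟨k.val + 1, by omega⟩ * h ⟨k.val + 1, by omega⟩ = 1 := by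
  have key : ∀ k : Fin 6, RF.contains [⟨k.val + 1, by omega⟩, ⟨k.val + 1, by omega⟩] = true := by decide +kernel
  have := hR.of_mem _ (key k)
  simpa using this

theorem comm (hR : Rels h) (k : Fin 6) :
    h 0 * h ⟨k.val + 1, by omega⟩ = h ⟨k.val + 1, by omega⟩ * h 0 := by
  have key : ∀ k : Fin 6, RF.contains [0, ⟨k.val + 1, by omega⟩, 0, ⟨k.val + 1, by omega⟩] = true := by
    decide +kernel
  have h1 := hR.of_mem _ (key k)
  have h2 : (h 0 * h ⟨k.val + 1, by omega⟩) * (h 0 * h ⟨k.val + 1, by omega⟩) = 1 := by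
    simpa [mul_assoc] using h1
  rw [eq_inv_of_mul_eq_one_left h2, mul_inv_rev, ← eq_inv_of_mul_eq_one_left hR.tt,
    ← eq_inv_of_mul_eq_one_left (hR.sq k)]

theorem ggg (hR : Rels h) : h 7 ^ 3 = 1 := by
  have := hR.of_mem [7, 7, 7] (by decide +kernel)
  simpa [pow_succ, mul_assoc] using this

/-- `g⁻¹ a g = b` from the relator `g g a g b⁻¹`. -/
theorem conj_of (hR : Rels h) {a b b' : K} (hb : b * b' = 1) (h1 : h 7 * (h 7 * (a * (h 7 * b'))) = 1) :
    a * h 7 = h 7 * b := by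
  have h3 : h 7 * (h 7 * h 7) = 1 := by simpa [pow_succ, mul_assoc] using hR.ggg
  calc a * h 7 = (h 7 * (h 7 * h 7)) * (a * h 7) * (b' * b) := by
        rw [h3, one_mul, mul_eq_one_comm.1 hb, mul_one]
    _ = h 7 * (h 7 * (h 7 * (a * (h 7 * b')))) * b := by simp only [mul_assoc]
    _ = h 7 * b := by rw [h1, mul_one]

theorem tg (hR : Rels h) : h 0 * h 7 = h 7 * h 1 :=
  hR.conj_of (hR.sq 0) (by simpa using hR.of_mem [7, 7, 0, 7, 1] (by decide +kernel))

theorem yg (hR : Rels h) : h 1 * h 7 = h 7 * (h 0 * h 1) := by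
  refine hR.conj_of (b' := h 1 * h 0) ?_ (by simpa using hR.of_mem [7, 7, 1, 7, 1, 0] (by decide +kernel))
  calc h 0 * h 1 * (h 1 * h 0) = h 0 * (h 1 * h 1) * h 0 := by simp only [mul_assoc]
    _ = 1 := by rw [show h 1 * h 1 = 1 from hR.sq 0, mul_one, hR.tt]

theorem tsg (hR : Rels h) (k : Fin 4) :
    (h 0 * h ⟨k.val + 2, by omega⟩) * h 7 = h 7 * (h 0 * h ⟨k.val + 2, by omega⟩) := by
  have key : ∀ k : Fin 4, RF.contains [7, 7, 0, ⟨k.val + 2, by omega⟩, 7, ⟨k.val + 2, by omega⟩, 0] = true := by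
    decide +kernel
  have h1 := hR.of_mem _ (key k)
  have h4 : h ⟨k.val + 2, by omega⟩ * h ⟨k.val + 2, by omega⟩ = 1 := hR.sq ⟨k.val + 1, by omega⟩
  refine hR.conj_of (b' := h ⟨k.val + 2, by omega⟩ * h 0) ?_ (by simpa [mul_assoc] using h1)
  generalize h ⟨k.val + 2, by omega⟩ = a at h4
  calc h 0 * a * (a * h 0) = h 0 * (a * a) * h 0 := by simp only [mul_assoc]
    _ = 1 := by rw [h4, mul_one, hR.tt]

theorem r1 (hR : Rels h) : (h 6 * h 5 * h 7) ^ 3 = 1 := by
  have := hR.of_mem R1 (by decide +kernel)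
  simpa [R1, pow_succ, mul_assoc] using this

/-- `(a b)ⁿ = 1 → (b a)ⁿ = 1` -/
theorem pow_swap {a b : K} {n : ℕ} (h1 : (a * b) ^ n = 1) : (b * a) ^ n = 1 := by
  have : b * a = b * (a * b) * b⁻¹ := by group
  rw [this, conj_pow, h1, mul_one, mul_inv_cancel]

theorem r3 (hR : Rels h) : (rho h * h 7) ^ 3 = 1 := by
  refine pow_swap ?_
  have := hR.of_mem R3 (by decide +kernel)
  rwa [R3_prod] at this

theorem rho_rev (hR : Rels h) : (rhoS.reverse.map h).prod = (rho h)⁻¹ := by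
  unfold rho
  have key : ∀ l : List (Fin 8), (∀ k ∈ l, h k * h k = 1) → (l.reverse.map h).prod = ((l.map h).prod)⁻¹ := by
    intro l
    induction l with
    | nil => intro _; simp
    | cons k l ih =>
      intro hk
      have e1 : ((k :: l).map h).prod = h k * (l.map h).prod := by rw [List.map_cons, List.prod_cons]
      have e2 : (([k] : List (Fin 8)).map h).prod = h k := by simp
      rw [List.reverse_cons, List.map_append, List.prod_append, ih fun j hj => hk j (List.mem_cons_of_mem _ hj),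
        e1, e2, mul_inv_rev]
      congr 1
      exact eq_inv_of_mul_eq_one_left (hk k List.mem_cons_self)
  refine key _ fun k hk => ?_
  have h6 : ∀ k ∈ rhoS, ∃ j : Fin 6, k = ⟨j.val + 1, by omega⟩ := by decide
  obtain ⟨j, rfl⟩ := h6 k hk
  exact hR.sq j

theorem r4 (hR : Rels h) : ((rho h)⁻¹ * h 7) ^ 7 = 1 := by
  refine pow_swap ?_
  have h1 := hR.of_mem R4 (by decide +kernel)
  have h4 : ((7 :: rhoS.reverse).map h).prod = h 7 * (rho h)⁻¹ := by
    rw [← hR.rho_rev]; simp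
  rw [← h1]
  unfold R4
  generalize (7 :: rhoS.reverse : List (Fin 8)) = w at h4
  simp only [List.map_append, List.prod_append, h4, pow_succ, pow_zero, one_mul, mul_assoc]

/-- The homomorphism from `M₁₂`. -/
theorem exists_phi (hR : Rels h) : ∃ φ : K12 →* K, ∀ i : Fin 6, φ (kl i) = h ⟨i + 1, by omega⟩ :=
  exists_hom8 h fun r hr => hR r (List.mem_append_left _ hr)

end Rels

end Cfsg.Agent.CoThreeStd.Bound.RelF
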