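import Cfsg.Agent.CoThreeStd.M12.Model
import Cfsg.Agent.CoThreeStd.Bound.M12CosAAll
import Cfsg.Agent.CoThreeStd.Bound.M12CosBAll
import Cfsg.Agent.SporadicRecognition.CosetCertHyp
import Cfsg.Agent.MTwelveType.SylowModel

/-!
# A presentation of the Mathieu group of degree twelve (helper928)

Letters `x s₁ s₂ s₃ s₄ e` (`= y p q r s e` with `e = y b y q r q b y`), numbered `0 .. 5`, as permutations `k i` of twelve
points; `K12 = ⟨k 0, …, k 5⟩` has `95040` elements, and six elements of any group satisfying the relators `RM` are the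
images of the letters under a homomorphism defined on `K12`.

The bound: `⟨x, s₁, …, s₄, e⟩ : ⟨x, s₁, …, s₄⟩ ≤ 396` and `|⟨x, s₁, …, s₄⟩| ≤ 240`, by two certified coset enumerations.
-/

set_option autoImplicit false

namespace Cfsg.Agent.CoThreeStd.Bound

open Cfsg.Agent.CoThreeStd.M12
open Cfsg.Agent.SporadicRecognition.CosetCert Cfsg.Agent.SporadicRecognition.CosetCertHyp

/-- Tables of the six letters `x s₁ s₂ s₃ s₄ e`: digit `i` (hexadecimal) is the image of `i`. -/
def ktL : List ℕ := [0x98ba50734126, 0x537492b8a601, 0x26104a375b98, 0x3642918a75b, 0xab8942375601, 0x538941b7a062]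

/-- Table of a letter. -/
def kt (i : Fin 6) : ℕ := ktL.getD i 0

theorem chk_kt : ∀ i : Fin 6, chkInv (kt i) = true := by decide +kernel

/-- The letters `x s₁ s₂ s₃ s₄ e`. -/
def k (i : Fin 6) : P12 := mkInv (kt i) (chk_kt i)

theorem k_rep (i : Fin 6) : Rep (k i) (kt i) := mkInv_rep _ _

theorem k_sq (i : Fin 6) : k i * k i = 1 := mkInv_mul_self _ _

/-- The images of the points. -/
theorem k_apply : (List.finRange 6).map (fun i => (List.finRange 12).map (k i)) =
    [[6, 2, 1, 4, 3, 7, 0, 5, 10, 11, 8, 9], [1, 0, 6, 10, 8, 11, 2, 9, 4, 7, 3, 5],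
      [8, 9, 11, 5, 7, 3, 10, 4, 0, 1, 6, 2], [11, 5, 7, 10, 8, 1, 9, 2, 4, 6, 3, 0],
      [1, 0, 6, 5, 7, 3, 2, 4, 9, 8, 11, 10], [2, 6, 0, 10, 7, 11, 1, 4, 9, 8, 3, 5]] := by
  decide +kernel

/-- The Mathieu group on twelve points, generated by `x s₁ s₂ s₃ s₄ e`. -/
def K12 : Subgroup P12 := Subgroup.closure (Set.range k)

/-- The letters as elements of the group. -/
def kl (i : Fin 6) : K12 := ⟨k i, Subgroup.subset_closure ⟨i, rfl⟩⟩

/-- The value of a word. -/
def kel (w : List (Fin 6)) : P12 := (w.map k).prod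

/-- The table of a word. -/
def kwt (w : List (Fin 6)) : ℕ := w.foldr (fun i t => mulT (kt i) t) oneT

theorem kel_rep (w : List (Fin 6)) : Rep (kel w) (kwt w) := by
  induction w with
  | nil => exact Rep.one
  | cons i w ih =>
    have h := (k_rep i).mul ih
    have e : kel (i :: w) = k i * kel w := by unfold kel; rw [List.map_cons, List.prod_cons]
    rw [e]
    exact h

theorem kel_mem (w : List (Fin 6)) : kel w ∈ K12 := by
  unfold kel
  apply Subgroup.list_prod_mem
  intro a ha
  obtain ⟨i, -, rfl⟩ := List.mem_map.1 ha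
  exact Subgroup.subset_closure ⟨i, rfl⟩

theorem lt_coe (w : List (Fin 6)) : ((el w : G12) : P12) ∈ G12 := (el w).2

theorem k_letter : ∀ i : Fin 6, kt i = if i = 5 then wt [0, 5, 0, 2, 3, 2, 5, 0] else tl i := by decide +kernel

theorem K12_eq : K12 = G12 := by
  apply le_antisymm
  · rw [K12, Subgroup.closure_le]
    rintro _ ⟨i, rfl⟩
    by_cases hi : i = 5
    · subst hi
      have h : k 5 = (el [0, 5, 0, 2, 3, 2, 5, 0] : P12) :=
        ((k_rep 5).eq_iff (el_rep _)).2 (by decide +kernel)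
      rw [h]
      exact (el _).2
    · have h : k i = lp i := ((k_rep i).eq_iff (lp_rep i)).2 (by rw [k_letter, if_neg hi])
      rw [h]
      exact Subgroup.subset_closure ⟨i, rfl⟩
  · rw [G12, Subgroup.closure_le]
    rintro _ ⟨i, rfl⟩
    by_cases hi : i = 5
    · subst hi
      have h : lp 5 = kel [2, 3, 4, 5, 3, 2, 5, 2, 3, 4, 5, 3, 2] :=
        ((lp_rep 5).eq_iff (kel_rep _)).2 (by decide +kernel)
      rw [h]
      exact kel_mem _
    · have h : lp i = k i := ((lp_rep i).eq_iff (k_rep i)).2 (by rw [k_letter, if_neg hi])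
      rw [h]
      exact Subgroup.subset_closure ⟨i, rfl⟩

/-- **The order of `M₁₂`.** -/
theorem card_K12 : Nat.card K12 = 95040 := by
  rw [K12_eq, ← Nat.card_congr equiv.toEquiv]
  exact MTwelveType.SylowModel.card_M12

/-- The relators. -/
def RM : List (List (Fin 6)) :=
  [[0, 0], [1, 1], [2, 2], [3, 3], [4, 4], [5, 5],
    [5, 1, 5, 1], [5, 4, 5, 4], [1, 3, 1, 3], [1, 4, 1, 4], [1, 0, 1, 0], [2, 4, 2, 4], [2, 0, 2, 0],
    [3, 0, 3, 0], [4, 0, 4, 0], [0, 1, 0, 1], [0, 2, 0, 2], [0, 3, 0, 3], [0, 4, 0, 4],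
    [1, 2, 1, 2, 1, 2], [2, 3, 2, 3, 2, 3], [3, 4, 3, 4, 3, 4], [5, 0, 5, 4, 1, 0],
    [0, 5, 0, 5, 0, 5, 0, 5], [2, 5, 2, 5, 2, 5, 2, 5, 2, 5], [3, 5, 3, 5, 3, 5, 3, 5, 3, 5],
    [5, 2, 5, 3, 5, 3, 4, 2, 3, 1, 2, 0, 5, 2, 5, 0, 3, 4],
    [5, 1, 2, 3, 2, 5, 1, 2, 3, 4, 3, 2, 1, 0, 5, 2, 3, 2, 1],
    [5, 2, 5, 2, 3, 5, 3, 0, 5, 3, 2, 5, 2, 5, 3, 4, 2, 3, 0]]

/-- The relators in the letters `t x s₁ s₂ s₃ s₄ e d = 0 .. 7`. -/
def RM8 : List (List (Fin 8)) := RM.map fun w => w.map fun i : Fin 6 => ⟨i + 1, by omega⟩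

theorem RM_true : ∀ w ∈ RM, kwt w = oneT := by decide +kernel

theorem RM_one {w : List (Fin 6)} (hw : w ∈ RM) : (w.map k).prod = 1 :=
  ((kel_rep w).eq_one_iff).2 (RM_true w hw)

/-! ### the bound -/

section bound

variable {G : Type*} [Group G] (g : Fin 6 → G)

/-- The letters of the certificates. -/
def gn (m : ℕ) (n : ℕ) : G := if h : n < 6 then (if n < m then g ⟨n, h⟩ else 1) else 1

theorem ev_of_mem {m : ℕ} {R : List (List ℕ)} (hR : ∀ r ∈ RM, (r.map g).prod = 1)
    (hsub : R.all (fun r => RM.any (fun s => s.map Fin.val == r) && r.all (fun i => Nat.blt i m)) = true) :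
    ∀ r ∈ R, ev (gn g m) r = 1 := by
  intro r hr
  have h := List.all_eq_true.1 hsub r hr
  rw [Bool.and_eq_true, List.any_eq_true, List.all_eq_true] at h
  obtain ⟨⟨s, hs, hsr⟩, h2⟩ := h
  rw [beq_iff_eq] at hsr
  subst hsr
  rw [← hR s hs]
  unfold ev
  rw [List.map_map]
  congr 1
  apply List.map_congr_left
  intro i hi
  have h3 := h2 i.val (List.mem_map_of_mem hi)
  rw [Nat.blt_eq] at h3
  show gn g m i.val = g i
  unfold gn
  rw [dif_pos i.isLt, if_pos h3]

theorem gn_inv (m : ℕ) (hR : ∀ r ∈ RM, (r.map g).prod = 1) (n : ℕ) : gn g m n * gn g m n = 1 := by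
  have hsq : ∀ i : Fin 6, g i * g i = 1 := by
    intro i
    have h := hR [i, i] (by revert i; decide)
    rwa [List.map_cons, List.map_cons, List.map_nil, List.prod_cons, List.prod_cons, List.prod_nil,
      mul_one] at h
  unfold gn
  split_ifs with h1 h2
  · exact hsq _
  · exact one_mul 1
  · exact one_mul 1

theorem card_small (hR : ∀ r ∈ RM, (r.map g).prod = 1) :
    Finite (Subgroup.closure (gn g 5 '' {n | n < 5})) ∧
      Nat.card (Subgroup.closure (gn g 5 '' {n | n < 5})) ≤ 240 := by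
  have hz : Finite (Subgroup.zpowers (gn g 5 0)) ∧ Nat.card (Subgroup.zpowers (gn g 5 0)) ≤ 2 := by
    have h1 : orderOf (gn g 5 0) ∣ 2 := orderOf_dvd_of_pow_eq_one (by rw [pow_two]; exact gn_inv g 5 hR 0)
    have h2 : orderOf (gn g 5 0) ≤ 2 := Nat.le_of_dvd (by norm_num) h1
    have h3 : 0 < orderOf (gn g 5 0) := Nat.pos_of_dvd_of_pos h1 (by norm_num)
    rw [← Nat.card_zpowers] at h2 h3
    exact ⟨(Nat.card_pos_iff.1 h3).2, h2⟩
  have hyp : Hyp M12CosBData.C (Subgroup.zpowers (gn g 5 0)) (gn g 5) := by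
    refine hyp_of_checks _ _ M12CosBData.C M12CosBData.rels M12CosBData.subw rfl ?_
      (ev_of_mem g hR (by decide +kernel)) ?_ (by decide +kernel)
    · intro n hn
      exact ⟨hn, gn_inv g 5 hR n⟩
    · intro s hs
      simp only [M12CosBData.subw, List.mem_cons, List.not_mem_nil, or_false] at hs
      subst hs
      simp only [ev, List.map_cons, List.map_nil, List.prod_cons, List.prod_nil, mul_one]
      exact Subgroup.mem_zpowers _
  have := hz.1
  obtain ⟨h1, h2⟩ := card_closure_le M12CosBData.C _ _ hyp M12CosBAll.part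
  refine ⟨h1, h2.trans ?_⟩
  calc 120 * Nat.card (Subgroup.zpowers (gn g 5 0)) ≤ 120 * 2 := Nat.mul_le_mul_left _ hz.2
    _ = 240 := by norm_num

theorem gn_six (i : Fin 6) : gn g 6 i = g i := by
  unfold gn
  rw [dif_pos i.isLt, if_pos i.isLt]

theorem closure_gn : Subgroup.closure (gn g 6 '' {n | n < 6}) = Subgroup.closure (Set.range g) := by
  congr 1
  ext a
  constructor
  · rintro ⟨n, hn, rfl⟩
    exact ⟨⟨n, hn⟩, (gn_six g ⟨n, hn⟩).symm⟩
  · rintro ⟨i, rfl⟩
    exact ⟨i.val, i.isLt, gn_six g i⟩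

/-- **Six elements satisfying the relators generate a group with at most `95040` elements.** -/
theorem card_closure_le (hR : ∀ r ∈ RM, (r.map g).prod = 1) :
    Finite (Subgroup.closure (Set.range g)) ∧ Nat.card (Subgroup.closure (Set.range g)) ≤ 95040 := by
  obtain ⟨h1, h2⟩ := card_small g hR
  have hyp : Hyp M12CosAData.C (Subgroup.closure (gn g 5 '' {n | n < 5})) (gn g 6) := by
    refine hyp_of_checks _ _ M12CosAData.C M12CosAData.rels M12CosAData.subw rfl ?_
      (ev_of_mem g hR (by decide +kernel)) ?_ (by decide +kernel)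
    · intro n hn
      exact ⟨hn, gn_inv g 6 hR n⟩
    · have key : ∀ n, n < 5 → ev (gn g 6) [n] ∈ Subgroup.closure (gn g 5 '' {n | n < 5}) := by
        intro n hn
        have e : ev (gn g 6) [n] = gn g 5 n := by
          simp only [ev, List.map_cons, List.map_nil, List.prod_cons, List.prod_nil, mul_one]
          unfold gn
          rw [dif_pos (by omega), dif_pos (by omega), if_pos (by omega), if_pos (by omega)]
        rw [e]
        exact Subgroup.subset_closure ⟨n, hn, rfl⟩
      intro s hs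
      simp only [M12CosAData.subw, List.mem_cons, List.not_mem_nil, or_false] at hs
      rcases hs with rfl | rfl | rfl | rfl | rfl <;> exact key _ (by norm_num)
  obtain ⟨h3, h4⟩ := SporadicRecognition.CosetCert.card_closure_le M12CosAData.C _ _ hyp M12CosAAll.part
  have e : Subgroup.closure (gn g 6 '' {x | x < M12CosAData.C.k}) = Subgroup.closure (Set.range g) :=
    closure_gn g
  rw [e] at h3 h4
  refine ⟨h3, h4.trans ?_⟩
  calc 396 * Nat.card (Subgroup.closure (gn g 5 '' {n | n < 5})) ≤ 396 * 240 := Nat.mul_le_mul_left _ h2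
    _ = 95040 := by norm_num

end bound

/-! ### the homomorphism -/

/-- A homomorphism from the order of the diagonal group. -/
theorem hom_of_card {ι K H : Type*} [Group K] [Group H] (a : ι → K) (h : ι → H)
    (ha : Subgroup.closure (Set.range a) = ⊤)
    (hfin : Finite (Subgroup.closure (Set.range fun i => (a i, h i))))
    (hcard : Nat.card (Subgroup.closure (Set.range fun i => (a i, h i))) ≤ Nat.card K) :
    ∃ φ : K →* H, ∀ i, φ (a i) = h i := by
  set D := Subgroup.closure (Set.range fun i => (a i, h i)) with hD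
  let π : D →* K := (MonoidHom.fst K H).comp D.subtype
  have hmem : ∀ i, (a i, h i) ∈ D := fun i => Subgroup.subset_closure ⟨i, rfl⟩
  have hsurj : Function.Surjective π := by
    rw [← MonoidHom.range_eq_top, eq_top_iff, ← ha, Subgroup.closure_le]
    rintro _ ⟨i, rfl⟩
    exact ⟨⟨(a i, h i), hmem i⟩, rfl⟩
  have hbij := hsurj.bijective_of_nat_card_le hcard
  let e : D ≃* K := MulEquiv.ofBijective π hbij
  refine ⟨((MonoidHom.snd K H).comp D.subtype).comp e.symm.toMonoidHom, fun i => ?_⟩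
  have he : e ⟨(a i, h i), hmem i⟩ = a i := rfl
  have he' : e.symm (a i) = ⟨(a i, h i), hmem i⟩ := e.injective (by rw [MulEquiv.apply_symm_apply, he])
  show (MonoidHom.snd K H) (D.subtype (e.symm (a i))) = h i
  rw [he']
  rfl

theorem closure_kl : Subgroup.closure (Set.range kl) = ⊤ := by
  have h := Subgroup.closure_closure_coe_preimage (k := Set.range k)
  have e : ((↑) : Subgroup.closure (Set.range k) → P12) ⁻¹' Set.range k = Set.range kl := by
    ext x
    constructor
    · rintro ⟨i, hi⟩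
      exact ⟨i, Subtype.ext hi⟩
    · rintro ⟨i, rfl⟩
      exact ⟨i, rfl⟩
  rw [e] at h
  exact h

theorem map_prod_pair {K H : Type*} [Group K] [Group H] {ι : Type*} (a : ι → K) (h : ι → H) (l : List ι) :
    (l.map fun i => (a i, h i)).prod = ((l.map a).prod, (l.map h).prod) := by
  induction l with
  | nil => rfl
  | cons i l ih => rw [List.map_cons, List.prod_cons, ih]; rfl

theorem kl_prod (l : List (Fin 6)) : (((l.map kl).prod : K12) : P12) = (l.map k).prod := by
  induction l with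
  | nil => rfl
  | cons i l ih => rw [List.map_cons, List.prod_cons, List.map_cons, List.prod_cons, ← ih]; rfl

/-- **The presentation of `M₁₂`.** -/
theorem exists_hom {H : Type*} [Group H] (h : Fin 6 → H) (hR : ∀ r ∈ RM, (r.map h).prod = 1) :
    ∃ φ : K12 →* H, ∀ i, φ (kl i) = h i := by
  have hR2 : ∀ r ∈ RM, (r.map fun i => (kl i, h i)).prod = 1 := by
    intro r hr
    rw [map_prod_pair, hR r hr]
    have h1 : (r.map kl).prod = 1 := Subtype.ext (by rw [kl_prod, RM_one hr]; rfl)
    rw [h1]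
    rfl
  obtain ⟨h1, h2⟩ := card_closure_le (fun i => (kl i, h i)) hR2
  exact hom_of_card kl h closure_kl h1 (by rw [card_K12]; exact h2)

/-- **The presentation of `M₁₂`**, in the letters `t x s₁ s₂ s₃ s₄ e d = 0 .. 7`. -/
theorem exists_hom8 {H : Type*} [Group H] (h : Fin 8 → H) (hR : ∀ r ∈ RM8, (r.map h).prod = 1) :
    ∃ φ : K12 →* H, ∀ i : Fin 6, φ (kl i) = h ⟨i + 1, by omega⟩ := by
  refine exists_hom (fun i : Fin 6 => h ⟨i + 1, by omega⟩) ?_
  intro r hr
  have h1 := hR (r.map fun i : Fin 6 => (⟨i + 1, by omega⟩ : Fin 8)) (List.mem_map_of_mem hr)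
  rw [List.map_map] at h1
  exact h1

end Cfsg.Agent.CoThreeStd.Bound
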