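import Cfsg.Agent.CoThreeStd.Bound.Final
import Cfsg.Agent.CoThreeStd.DC.Psi
import Cfsg.Agent.CoThreeStd.Bound.RelF
import Cfsg.Agent.CoThreeStd.NOne

/-!
# S1750 (N3): the bound for the final relator list
-/

set_option autoImplicit false

namespace Cfsg.Agent.CoThreeStd.Bound.BetaFin

open Cfsg.Agent.CoThreeStd.GlueF Cfsg.Agent.CoThreeStd.Model Cfsg.Agent.CoThreeStd.Bound
  Cfsg.Agent.CoThreeStd.Bound.RelF Cfsg.Agent.CoThreeStd.GlueB

universe u

section hom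

variable {K : Type*} [Group K] {h : Fin 8 → K} {φ : K12 →* K}

theorem comm_phi (hR : Rels h) (hφ : ∀ i : Fin 6, φ (kl i) = h ⟨i + 1, by omega⟩) (m : K12) :
    h 0 * φ m = φ m * h 0 := by
  have hm : m ∈ Subgroup.closure (Set.range kl) := by rw [closure_kl]; exact Subgroup.mem_top m
  induction hm using Subgroup.closure_induction with
  | mem x hx =>
    obtain ⟨i, rfl⟩ := hx
    rw [hφ]
    exact hR.comm i
  | one => rw [map_one, mul_one, one_mul]
  | mul x y _ _ hx hy => rw [map_mul, ← mul_assoc, hx, mul_assoc, hy, mul_assoc]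
  | inv x _ hx =>
    rw [map_inv]
    have h1 : (Commute (h 0) (φ x)) := hx
    exact h1.inv_right.eq

theorem gen (hφ : ∀ i : Fin 6, φ (kl i) = h ⟨i + 1, by omega⟩) (hgen : Subgroup.closure (Set.range h) = ⊤) :
    Subgroup.closure (Set.range φ ∪ {h 0, h 7}) = ⊤ := by
  rw [eq_top_iff, ← hgen, Subgroup.closure_le]
  rintro _ ⟨k, rfl⟩
  by_cases h0 : k = 0
  · subst h0; exact Subgroup.subset_closure (Or.inr (Or.inl rfl))
  by_cases h7 : k = 7
  · subst h7; exact Subgroup.subset_closure (Or.inr (Or.inr rfl))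
  have hk : ∃ i : Fin 6, k = ⟨i + 1, by omega⟩ := by
    have h8 := k.isLt
    have hk0 : k.val ≠ 0 := fun h => h0 (Fin.ext h)
    have hk7 : k.val ≠ 7 := fun h => h7 (Fin.ext h)
    exact ⟨⟨k.val - 1, by omega⟩, Fin.ext (by simp; omega)⟩
  obtain ⟨i, rfl⟩ := hk
  exact Subgroup.subset_closure (Or.inl ⟨kl i, hφ i⟩)

/-- The homomorphism from `K₁₂ × 2`. -/
noncomputable def psiH (hR : Rels h) (hφ : ∀ i : Fin 6, φ (kl i) = h ⟨i + 1, by omega⟩) : DC.Psi.C →* K :=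
  DC.Psi.psi φ (h 0) hR.tt (comm_phi hR hφ)

theorem psi_ga (hR : Rels h) (hφ : ∀ i : Fin 6, φ (kl i) = h ⟨i + 1, by omega⟩) (q : ℕ) (hq : q < 7) :
    psiH hR hφ (DC.Psi.ga q) = h ⟨q, by omega⟩ := by
  rcases Nat.eq_zero_or_pos q with rfl | hpos
  · rw [DC.Psi.ga_zero]
    exact DC.Psi.psi_tau _ _ _ _
  · obtain ⟨i, rfl⟩ : ∃ i : ℕ, q = i + 1 := ⟨q - 1, by omega⟩
    rw [show DC.Psi.ga (i + 1) = (kl ⟨i, by omega⟩, 1) from DC.Psi.ga_succ ⟨i, by omega⟩]
    exact (DC.Psi.psi_one _ _ _ _ _).trans (hφ ⟨i, by omega⟩)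

theorem psi_word (hR : Rels h) (hφ : ∀ i : Fin 6, φ (kl i) = h ⟨i + 1, by omega⟩) (l : List (Fin 8))
    (hl : ∀ k ∈ l, k.val < 7) :
    psiH hR hφ ((l.map fun k => DC.Psi.ga k.val).prod) = (l.map h).prod := by
  induction l with
  | nil => simp
  | cons i l ih =>
    rw [List.map_cons, List.prod_cons, map_mul, ih fun k hk => hl k (List.mem_cons_of_mem _ hk),
      psi_ga hR hφ i.val (hl i List.mem_cons_self), List.map_cons, List.prod_cons]

/-- The code of a word. -/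
noncomputable def cw (l : List (Fin 8)) : ℕ :=
  l.foldr (fun k a => DC.Eng.mulN (DC.Psi.gaN k.val) a) DC.Eng.idN

theorem cd_word (l : List (Fin 8)) : DC.Psi.md.cd ((l.map fun k => DC.Psi.ga k.val).prod) = cw l := by
  induction l with
  | nil => exact DC.Psi.md.one
  | cons i l ih =>
    rw [List.map_cons, List.prod_cons, ← DC.Psi.md.mul, ih, DC.Psi.cd_ga, cw, cw, List.foldr_cons]

theorem cd_letters : ∀ q < 7, DC.Psi.gaN q = DC.Eng.at64 Base.lT q := by decide +kernel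

theorem lets : Base.Lets DC.Psi.md DC.Psi.ga :=
  ⟨fun q hq => by rw [DC.Psi.cd_ga, cd_letters q hq], DC.Psi.closure_ga⟩

theorem w0 : cw [] = DC.Eng.at64 Data.tabs.W 0 := by decide +kernel
theorem w1 : cw [6, 5] = DC.Eng.at64 Data.tabs.W 1 := by decide +kernel
theorem w2 : cw rhoS = DC.Eng.at64 Data.tabs.W 2 := by decide +kernel
theorem w3 : cw rhoS.reverse = DC.Eng.at64 Data.tabs.W 3 := by decide +kernel
theorem x0 : DC.Sound.expo Data.tabs 0 = 2 := by decide +kernel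
theorem x1 : DC.Sound.expo Data.tabs 1 = 2 := by decide +kernel
theorem x2 : DC.Sound.expo Data.tabs 2 = 2 := by decide +kernel
theorem x3 : DC.Sound.expo Data.tabs 3 = 6 := by decide +kernel

theorem conj (hR : Rels h) (hφ : ∀ i : Fin 6, φ (kl i) = h ⟨i + 1, by omega⟩) :
    Base.Conj DC.Psi.ga (psiH hR hφ) (h 7) where
  c0 := by rw [psi_ga hR hφ 0 (by norm_num), psi_ga hR hφ 1 (by norm_num)]; exact hR.tg
  c1 := by
    rw [map_mul, psi_ga hR hφ 0 (by norm_num), psi_ga hR hφ 1 (by norm_num)]; exact hR.yg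
  ci i h1 h2 := by
    obtain ⟨k, rfl⟩ : ∃ k : ℕ, i = k + 2 := ⟨i - 2, by omega⟩
    rw [map_mul, psi_ga hR hφ 0 (by norm_num), psi_ga hR hφ (k + 2) (by omega)]
    exact hR.tsg ⟨k, by omega⟩

theorem relW (hR : Rels h) (hφ : ∀ i : Fin 6, φ (kl i) = h ⟨i + 1, by omega⟩) :
    Base.RelW DC.Psi.md (psiH hR hφ) (h 7) := by
  intro e he
  interval_cases e
  · refine ⟨_, (cd_word []).trans w0, ?_⟩
    rw [psi_word hR hφ _ (by simp), x0, List.map_nil, List.prod_nil, one_mul]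
    exact hR.ggg
  · refine ⟨_, (cd_word [6, 5]).trans w1, ?_⟩
    rw [psi_word hR hφ _ (by decide), x1]
    simpa using hR.r1
  · refine ⟨_, (cd_word rhoS).trans w2, ?_⟩
    rw [psi_word hR hφ _ (by decide), x2]
    exact hR.r3
  · refine ⟨_, (cd_word rhoS.reverse).trans w3, ?_⟩
    rw [psi_word hR hφ _ (by decide), x3, hR.rho_rev]
    exact hR.r4

end hom

theorem bound_RF : Bound.{u} RF := by
  intro K _ h hrel hgen
  have hR : Rels h := hrel
  obtain ⟨φ, hφ⟩ := hR.exists_phi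
  refine Base.bound lets DC.Psi.card_C (conj hR hφ) (relW hR hφ) ?_
  rw [eq_top_iff, ← gen hφ hgen, Subgroup.closure_le]
  rintro x (⟨m, rfl⟩ | rfl | rfl)
  · exact Subgroup.subset_closure (Or.inl ⟨(m, 1), DC.Psi.psi_one _ _ _ _ _⟩)
  · exact Subgroup.subset_closure (Or.inl ⟨(1, DC.Psi.tau), DC.Psi.psi_tau _ _ _ _⟩)
  · exact Subgroup.subset_closure (Or.inr rfl)

/-- **Parts [A] and [B] of S1750.** -/
theorem betaIso : Core.BetaIso.{u} :=
  GlueF.betaIso NOne.nOne RF RF_okF RF_id bound_RF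

end Cfsg.Agent.CoThreeStd.Bound.BetaFin
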