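import Cfsg.Agent.CoThreeStd.Bound.Tabs

/-! Kernel checks of the rows of the double coset enumeration (generated). -/

set_option autoImplicit false
set_option maxRecDepth 100000

namespace Cfsg.Agent.CoThreeStd.Bound.Rows

open Cfsg.Agent.CoThreeStd.Bound.Data Cfsg.Agent.CoThreeStd.DC.Eng

theorem ok17 : rowOK tabs 17 cert_17 = true := by decide +kernel

theorem ok18 : rowOK tabs 18 cert_18 = true := by decide +kernel

theorem ok19 : rowOK tabs 19 cert_19 = true := by decide +kernel

theorem ok20 : rowOK tabs 20 cert_20 = true := by decide +kernel

theorem ok21 : rowOK tabs 21 cert_21 = true := by decide +kernel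

theorem ok22 : rowOK tabs 22 cert_22 = true := by decide +kernel

theorem ok23 : rowOK tabs 23 cert_23 = true := by decide +kernel

theorem ok24 : rowOK tabs 24 cert_24 = true := by decide +kernel

end Cfsg.Agent.CoThreeStd.Bound.Rows
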