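import Cfsg.Agent.CoThreeStd.Bound.Tabs

/-! Kernel checks of the rows of the double coset enumeration (generated). -/

set_option autoImplicit false
set_option maxRecDepth 100000

namespace Cfsg.Agent.CoThreeStd.Bound.Rows

open Cfsg.Agent.CoThreeStd.Bound.Data Cfsg.Agent.CoThreeStd.DC.Eng

theorem ok33 : rowOK tabs 33 cert_33 = true := by decide +kernel

theorem ok34 : rowOK tabs 34 cert_34 = true := by decide +kernel

theorem ok35 : rowOK tabs 35 cert_35 = true := by decide +kernel

theorem ok36 : rowOK tabs 36 cert_36 = true := by decide +kernel

theorem ok37 : rowOK tabs 37 cert_37 = true := by decide +kernel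

theorem ok38 : rowOK tabs 38 cert_38 = true := by decide +kernel

theorem ok39 : rowOK tabs 39 cert_39 = true := by decide +kernel

theorem ok40 : rowOK tabs 40 cert_40 = true := by decide +kernel

end Cfsg.Agent.CoThreeStd.Bound.Rows
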