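import Cfsg.Agent.CoThreeStd.Bound.Tabs

/-! Kernel checks of the rows of the double coset enumeration (generated). -/

set_option autoImplicit false
set_option maxRecDepth 100000

namespace Cfsg.Agent.CoThreeStd.Bound.Rows

open Cfsg.Agent.CoThreeStd.Bound.Data Cfsg.Agent.CoThreeStd.DC.Eng

theorem ok41 : rowOK tabs 41 cert_41 = true := by decide +kernel

theorem ok42 : rowOK tabs 42 cert_42 = true := by decide +kernel

theorem ok43 : rowOK tabs 43 cert_43 = true := by decide +kernel

theorem ok44 : rowOK tabs 44 cert_44 = true := by decide +kernel

theorem ok45 : rowOK tabs 45 cert_45 = true := by decide +kernel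

theorem ok46 : rowOK tabs 46 cert_46 = true := by decide +kernel

theorem ok47 : rowOK tabs 47 cert_47 = true := by decide +kernel

theorem ok48 : rowOK tabs 48 cert_48 = true := by decide +kernel

end Cfsg.Agent.CoThreeStd.Bound.Rows
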