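import Cfsg.Agent.CoThreeStd.Bound.Tabs

/-! Kernel checks of the rows of the double coset enumeration (generated). -/

set_option autoImplicit false
set_option maxRecDepth 100000

namespace Cfsg.Agent.CoThreeStd.Bound.Rows

open Cfsg.Agent.CoThreeStd.Bound.Data Cfsg.Agent.CoThreeStd.DC.Eng

theorem ok57 : rowOK tabs 57 cert_57 = true := by decide +kernel

theorem ok58 : rowOK tabs 58 cert_58 = true := by decide +kernel

theorem ok59 : rowOK tabs 59 cert_59 = true := by decide +kernel

theorem ok60 : rowOK tabs 60 cert_60 = true := by decide +kernel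

end Cfsg.Agent.CoThreeStd.Bound.Rows
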