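import Cfsg.Agent.CoThreeStd.Bound.Base
import Cfsg.Agent.CoThreeStd.Bound.Rows1
import Cfsg.Agent.CoThreeStd.Bound.Rows2
import Cfsg.Agent.CoThreeStd.Bound.Rows3
import Cfsg.Agent.CoThreeStd.Bound.Rows4
import Cfsg.Agent.CoThreeStd.Bound.Rows5
import Cfsg.Agent.CoThreeStd.Bound.Rows6
import Cfsg.Agent.CoThreeStd.Bound.Rows7
import Cfsg.Agent.CoThreeStd.Bound.Rows8

/-!
# The order bound from the double coset enumeration (S1750)
-/

set_option autoImplicit false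
set_option maxRecDepth 100000

namespace Cfsg.Agent.CoThreeStd.Bound.Base

open Cfsg.Agent.Lib.PackMat Cfsg.Agent.CoThreeStd.DC.Eng Cfsg.Agent.CoThreeStd.DC.Sound
  Cfsg.Agent.CoThreeStd.Bound.Data

attribute [local irreducible] mulN idN at64 slot rowOK chk rows

theorem rowsOK (i : ℕ) (h1 : 1 ≤ i) (h2 : i ≤ 60) : ∃ l, rowOK tabs i l = true := by
  interval_cases i
  exacts [⟨_, Rows.ok1⟩, ⟨_, Rows.ok2⟩, ⟨_, Rows.ok3⟩, ⟨_, Rows.ok4⟩, ⟨_, Rows.ok5⟩, ⟨_, Rows.ok6⟩, ⟨_,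
      Rows.ok7⟩, ⟨_, Rows.ok8⟩, ⟨_, Rows.ok9⟩, ⟨_, Rows.ok10⟩, ⟨_, Rows.ok11⟩, ⟨_, Rows.ok12⟩, ⟨_,
      Rows.ok13⟩, ⟨_, Rows.ok14⟩, ⟨_, Rows.ok15⟩, ⟨_, Rows.ok16⟩, ⟨_, Rows.ok17⟩, ⟨_, Rows.ok18⟩, ⟨_,
      Rows.ok19⟩, ⟨_, Rows.ok20⟩, ⟨_, Rows.ok21⟩, ⟨_, Rows.ok22⟩, ⟨_, Rows.ok23⟩, ⟨_, Rows.ok24⟩, ⟨_,
      Rows.ok25⟩, ⟨_, Rows.ok26⟩, ⟨_, Rows.ok27⟩, ⟨_, Rows.ok28⟩, ⟨_, Rows.ok29⟩, ⟨_, Rows.ok30⟩, ⟨_,
      Rows.ok31⟩, ⟨_, Rows.ok32⟩, ⟨_, Rows.ok33⟩, ⟨_, Rows.ok34⟩, ⟨_, Rows.ok35⟩, ⟨_, Rows.ok36⟩, ⟨_,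
      Rows.ok37⟩, ⟨_, Rows.ok38⟩, ⟨_, Rows.ok39⟩, ⟨_, Rows.ok40⟩, ⟨_, Rows.ok41⟩, ⟨_, Rows.ok42⟩, ⟨_,
      Rows.ok43⟩, ⟨_, Rows.ok44⟩, ⟨_, Rows.ok45⟩, ⟨_, Rows.ok46⟩, ⟨_, Rows.ok47⟩, ⟨_, Rows.ok48⟩, ⟨_,
      Rows.ok49⟩, ⟨_, Rows.ok50⟩, ⟨_, Rows.ok51⟩, ⟨_, Rows.ok52⟩, ⟨_, Rows.ok53⟩, ⟨_, Rows.ok54⟩, ⟨_,
      Rows.ok55⟩, ⟨_, Rows.ok56⟩, ⟨_, Rows.ok57⟩, ⟨_, Rows.ok58⟩, ⟨_, Rows.ok59⟩, ⟨_, Rows.ok60⟩]

theorem hrows : ∀ i r n, find tabs.rows i = some (r, n) → n = 0 ∨ ∃ l, rowOK tabs i l = true := by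
  intro i r n hf
  have hf' : find rows i = some (r, n) := hf
  have hi := find_lt hf'
  rw [dep_rows] at hi
  have key : ∀ i, find rows i = some (0, 0) → find rows i = some (r, n) → n = 0 := by
    intro i h0 h1
    rw [h0] at h1
    exact (Prod.mk.inj (Option.some.inj h1)).2.symm
  rcases (by omega : (1 ≤ i ∧ i ≤ 60) ∨ i = 0 ∨ i = 61 ∨ i = 62 ∨ i = 63) with ⟨h1, h2⟩ | rfl | rfl | rfl | rfl
  · exact Or.inr (rowsOK i h1 h2)
  · exact Or.inl (key _ find_0 hf')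
  · exact Or.inl (key _ find_61 hf')
  · exact Or.inl (key _ find_62 hf')
  · exact Or.inl (key _ find_63 hf')

/-- `|C_C(C x_i)|` -/
def cN (i : ℕ) : ℕ := ns.getD i 0

/-- its index -/
def mN (i : ℕ) : ℕ := 190080 / cN i

theorem cmN : ∀ i < 61, cN i * mN i = 190080 := by decide +kernel

theorem sum_mN : 190080 * ∑ i ∈ Finset.range 61, mN i = 495766656000 := by decide +kernel

theorem cN_zero : cN 0 = 190080 := by decide +kernel

theorem row_st (i : ℕ) (h1 : 1 ≤ i) (h2 : i ≤ 60) : ∃ r, find rows i = some (r, 396 + cN i) ∧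
    (∀ m < cN i, ∀ m' < m, Nat.land (slot r (396 + m')) 0x1ffffffffffff <
      Nat.land (slot r (396 + m)) 0x1ffffffffffff) := by
  have h := chkS_sound _ kS (i - 1) (by rw [lenS]; omega)
  rw [show 1 + (i - 1) = i by omega] at h
  have e : ns.tail.getD (i - 1) 0 = cN i := by
    unfold cN
    obtain ⟨j, rfl⟩ : ∃ j, i = j + 1 := ⟨i - 1, by omega⟩
    rfl
  rw [e] at h
  exact stOK_sound h

section Sem

variable {C H : Type*} [Group C] [Group H]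

variable {M : DC.Sound.Mod C} {ga : ℕ → C}

/-- **The order bound.** -/
theorem bound [Finite C] (L : Lets M ga) (hcard : Nat.card C = 190080) {ψ : C →* H} {g : H} (D : Conj ga ψ g)
    (hW : RelW M ψ g) (gen : Subgroup.closure (Set.range ψ ∪ {g}) = ⊤) :
    Finite H ∧ Nat.card H ≤ 495766656000 := by
  obtain ⟨rr, hr0, hrr⟩ := exists_rr L
  have X := ctx L D hW hr0 hrr
  have hknown := known X hr0 hrows
  have hfact : ∀ i, 1 ≤ i → i ≤ 60 → ∀ r n, find rows i = some (r, n) → ∀ k < n,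
      FactOf M ψ g (xrep ψ g rr) rr i k (Nat.land (Nat.shiftRight (slot r k) 49) 127)
        (Nat.land (slot r k) 0x1ffffffffffff) ∧ (k ≤ 395 → Nat.land (Nat.shiftRight (slot r k) 49) 127 ≤ 60) := by
    intro i h1 h2 r n hf k hk
    obtain ⟨l, hl⟩ := rowsOK i h1 h2
    obtain ⟨s, hs⟩ := (rowOK_sound hl hf).2 k hk
    exact chk_sound X hr0 (hknown _) hs
  have hx0 := xrep_zero ψ g rr
  have hx1 := xrep_one ψ g hr0
  have hrl : ∀ {a b : H}, Rl ψ a b → ∃ w, ψ w * a = b := by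
    intro a b h
    obtain ⟨w, hw⟩ := h
    exact ⟨w⁻¹, by rw [map_inv, hw]; group⟩
  have hedge : ∀ i < 61, ∀ k < 396, ∃ j < 61, ∃ d w, ψ w * (xrep ψ g rr i * ψ (rr k) * g) = xrep ψ g rr j * ψ d := by
    intro i hi k hk
    rcases Nat.eq_zero_or_pos i with rfl | hpos
    · refine ⟨1, by norm_num, 1, (rr k)⁻¹, ?_⟩
      rw [hx0, hx1, map_one, map_inv, one_mul, mul_one, inv_mul_cancel_left]
    · obtain ⟨r, hf, -⟩ := row_st i hpos (by omega)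
      obtain ⟨h1, h2⟩ := hfact i hpos (by omega) r _ hf k (by omega)
      obtain ⟨c, -, hc⟩ := h1.1 (by omega)
      obtain ⟨w, hw⟩ := hrl hc
      exact ⟨_, Nat.lt_succ_of_le (h2 (by omega)), c, w, hw⟩
  have hstab : ∀ i < 61, cN i ≤ Nat.card {s : C // ∃ w, ψ w * (xrep ψ g rr i * ψ s) = xrep ψ g rr i} := by
    intro i hi
    rcases Nat.eq_zero_or_pos i with rfl | hpos
    · rw [cN_zero, ← hcard]
      refine Nat.card_le_card_of_injective (fun s : C => ⟨s, s⁻¹, ?_⟩) ?_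
      · rw [hx0, one_mul, map_inv, inv_mul_cancel]
      · intro a b h
        exact congrArg Subtype.val h
    · obtain ⟨r, hf, hinc⟩ := row_st i hpos (by omega)
      have key : ∀ m : Fin (cN i), ∃ s : {s : C // ∃ w, ψ w * (xrep ψ g rr i * ψ s) = xrep ψ g rr i},
          M.cd s.1 = Nat.land (slot r (396 + m)) 0x1ffffffffffff := by
        intro m
        obtain ⟨c, hc, h⟩ := (hfact i hpos (by omega) r _ hf (396 + m) (by omega)).1.2 (by omega)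
        exact ⟨⟨c, hrl h⟩, hc⟩
      choose f hfm using key
      have hinj : Function.Injective f := by
        intro a b hab
        have h1 : Nat.land (slot r (396 + a)) 0x1ffffffffffff = Nat.land (slot r (396 + b)) 0x1ffffffffffff := by
          rw [← hfm a, ← hfm b, hab]
        rcases lt_trichotomy (a : ℕ) b with h | h | h
        · exact absurd h1 (ne_of_lt (hinc b b.2 a h))
        · exact Fin.ext h
        · exact absurd h1.symm (ne_of_lt (hinc a a.2 b h))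
      have := Nat.card_le_card_of_injective f hinj
      rwa [Nat.card_fin] at this
  have hg : g ^ 3 = 1 := by
    obtain ⟨w, h1, h2⟩ := hW 0 (by norm_num)
    rw [w0, ← M.one] at h1
    rw [M.inj h1, map_one, one_mul, e0] at h2
    exact h2
  have := Count.count ψ g 61 396 (xrep ψ g rr) hx0 (by norm_num) rr (BS ψ g) (hcov L D hr0 hrr) (fun b hb => hb)
    hedge ⟨3, by norm_num, hg⟩ cN mN hstab (by rw [hcard]; exact cmN) gen
  rw [hcard, sum_mN] at this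
  exact this

end Sem

end Cfsg.Agent.CoThreeStd.Bound.Base
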