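import Cfsg.Agent.CoThreeStd.Bound.M12CosBData

set_option autoImplicit false
set_option maxRecDepth 100000

namespace Cfsg.Agent.CoThreeStd.Bound.M12CosBChk0

open Cfsg.Agent.SporadicRecognition.CosetCert Cfsg.Agent.CoThreeStd.Bound.M12CosBData

theorem c0 : Part C 0 64 64 := runChunk_sound C 64 (by decide +kernel : runChunk C 8 255 0xb3830102130201020223010202533302a3020103c3a3020103028301021393010243230102020233b302010213020102432301020253330202730103930102022301026302330202010213c3a3730103028301021393010243230102630233b302010213020102432301020253330202730103930102022301026302330283010213b3830102130201020223010202533302a302010393010243230102635333020201021301020202330201020223b3830102130201024323010202533302a37301039301024323010263533302020102130102630233020102022393010202230102630233028301021301020253330201024323020202010393010243230102635333028301021301020253330201024323020273010301026302330201020223020201021301026353330201024323020201021302020201030202020205 1 1 0 0 64 = 65)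

theorem c1 : Part C 64 120 56 := runChunk_sound C 56 (by decide +kernel : runChunk C 8 255 0x202020103c30202010302a30201030202730103020201021302a3020103c302730103b302010213c3020201030202730103028301021302a302010302020102130201020223c3a30201030202730103028301021302a3020103b3020102139301020223c302730103b30201021302a373010302020102130201020223c302020103028301021302010243230102020233c302730103b38301021302a373010302020102130201020223c3a302010302830102139301024323010202023302a3020103b3020102139301020223c302730103028301021302010243230102630233b30201021302010202230102025333020202010302a3730103b3020102139301020223c302730103028301021302010243230102630233 1 1 0 64 56 = 57)

theorem all : Part C 0 120 120 := (c0).append C c1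

end Cfsg.Agent.CoThreeStd.Bound.M12CosBChk0
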